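import Mathlib
import Cfsg.Agent.Lib.Helper9.BM5
import Cfsg.Agent.Lib.Helper9.TC2Chain
import Cfsg.Agent.Lib.Helper9.TC2Prim
import Cfsg.Agent.Lib.Helper9.TCData.HeK0.Cert
import Cfsg.Agent.Lib.Helper9.HeCZ.MatData

set_option autoImplicit false
set_option maxRecDepth 1000000

/-! The group presented on seven involutions `a, b, c, f, g, u, v` of order `21504`, and its
homomorphism to `SL₅(2)`. -/

namespace Cfsg.Agent.Helper9.HeCZ

open Cfsg.Agent.Helper9 Cfsg.Agent.Helper9.TC2 Cfsg.Agent.Helper9.TCData Cfsg.Agent.Helper9.BM5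
open Cfsg.Agent.Helper9.TitsBM (mul)
open Cfsg.Spor

/-- The special linear group. -/
abbrev SL5 := Matrix.SpecialLinearGroup (Fin 5) (ZMod 2)

/-- The presented group of order `21504`. -/
abbrev PK : Type := PresentedGroup (relSet HeK0.edges HeK0.extra)

theorem finPK : Finite PK := HeK0.cert.card_eq_of_empty.1

theorem cardPK : Nat.card PK = 21504 := HeK0.cert.card_eq_of_empty.2.trans HeK0.cert_n

/-- The matrix of a column. -/
def gM (c : ℕ) : BM := gens.getD c one

theorem gM_big {c : ℕ} (h : ¬ c < 7) : gM c = one :=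
  List.getD_eq_default _ _ (by
    have : gens.length = 7 := rfl
    omega)

theorem gM_ok (c : ℕ) : (gM c).length = 5 ∧ mul (gM c) (gM c) = one := by
  by_cases h : c < 7
  · interval_cases c <;> decide
  · rw [gM_big h]
    decide

/-- The matrices of the generators in the special linear group. -/
def gSL (c : ℕ) : SL5 := ⟨toMat (gM c), det_of_mul_self _ (gM_ok c).1 (gM_ok c).2⟩

theorem gSL_val (c : ℕ) : (gSL c).val = toMat (gM c) := rfl

theorem gSL_sq (c : ℕ) : gSL c * gSL c = 1 := by
  apply Subtype.ext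
  rw [Matrix.SpecialLinearGroup.coe_mul, gSL_val, ← toMat_mul _ _ (gM_ok c).1, (gM_ok c).2,
    toMat_one]
  rfl

theorem gSL_inv (c : ℕ) : (gSL c)⁻¹ = gSL c := inv_eq_of_mul_eq_one_left (gSL_sq c)

theorem prod_gSL (w : List ℕ) : ((w.map gSL).prod : SL5).val = toMat (evW gM w) := by
  induction w with
  | nil =>
    rw [List.map_nil, List.prod_nil, evW, toMat_one]
    rfl
  | cons c w ih =>
    rw [List.map_cons, List.prod_cons, Matrix.SpecialLinearGroup.coe_mul, ih, gSL_val, evW,
      toMat_mul _ _ (gM_ok c).1]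

/-- The homomorphism from the free group. -/
noncomputable def psi : FreeGroup (Fin 7) →* SL5 := FreeGroup.lift (fun i => gSL i.val)

theorem psi_of (x : Fin 7) : psi (FreeGroup.of x) = gSL x.val := FreeGroup.lift_apply_of

theorem idxOf_cols : ∀ x : Fin 7, HeK0.cols.idxOf (x, true) = x.val := by decide

theorem not_mem_cols : ∀ x : Fin 7, (x, false) ∉ HeK0.cols := by decide

theorem psi_eq (r : FreeGroup (Fin 7)) :
    psi r = ((colWord HeK0.cols r).map gSL).prod := by
  symm
  apply prod_colWord (HeK0.cert.hcols : ColsOK HeK0.edges HeK0.cols) psi gSL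
  · intro x
    show gSL (List.idxOf (x, true) HeK0.cols) = psi (FreeGroup.of x)
    rw [idxOf_cols, psi_of]
  · intro x hx
    exact absurd hx (not_mem_cols x)
  · intro x _
    rw [psi_of, gSL_inv]

theorem psi_val (r : FreeGroup (Fin 7)) :
    (psi r).val = toMat (evW gM (colWord HeK0.cols r)) := by
  rw [psi_eq, prod_gSL]

theorem key1 : ∀ r ∈ HeK0.extra, evW gM (colWord HeK0.cols r) = one := by
  decide +kernel

theorem key2 : ∀ x ∈ coxNodes HeK0.edges, ∀ y ∈ coxNodes HeK0.edges,
    evW gM (colWord HeK0.cols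
      ((FreeGroup.of x * FreeGroup.of y) ^ coxLabel HeK0.edges x y)) = one := by
  decide +kernel

theorem psi_one_of {r : FreeGroup (Fin 7)} (h : evW gM (colWord HeK0.cols r) = one) :
    psi r = 1 := by
  apply Subtype.ext
  rw [psi_val, h, toMat_one]
  rfl

theorem rels : ∀ r ∈ relSet HeK0.edges HeK0.extra, psi r = 1 := by
  intro r hr
  rcases hr with hr | hr
  · obtain ⟨x, hx, y, hy, rfl⟩ := hr
    exact psi_one_of (key2 x hx y hy)
  · exact psi_one_of (key1 r hr)

/-- The homomorphism to the special linear group. -/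
noncomputable def theta : PK →* SL5 := PresentedGroup.toGroup rels

theorem theta_mk (r : FreeGroup (Fin 7)) :
    theta (PresentedGroup.mk (relSet HeK0.edges HeK0.extra) r) = psi r := rfl

theorem theta_of (x : Fin 7) : theta (PresentedGroup.of x) = gSL x.val :=
  PresentedGroup.toGroup.of rels

end Cfsg.Agent.Helper9.HeCZ
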