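import Mathlib
import Cfsg.Agent.S1695
import Cfsg.Agent.Lib.Helper9.TC2Word
import Cfsg.Agent.Lib.Helper9.HeCZ.Mat

set_option autoImplicit false
set_option maxRecDepth 1000000

/-! In the presented Held group, the subgroup generated by `a, b, c, f, g, c ^ (dfed), c ^ (dged)`
is a quotient of the presented group of order `21504`, and centralizes the involution `e`. -/

namespace Cfsg.Agent.Helper9.HeCZ

open Cfsg Cfsg.Agent.Helper9 Cfsg.Agent.Helper9.TC2 Cfsg.Agent.Helper9.TCData Cfsg.Spor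

/-- The presented Held group. -/
abbrev G : Type := PresentedGroup (relSet HeB0.edges HeB0.extra)

theorem finG : Finite G := S1695.hub.1

theorem cardG : Nat.card G = 4030387200 := S1695.result.2

/-- The base points. -/
def pts : List ℕ := CoxCert.levPts HeB0.levs []

theorem hPS : HeB0.cert.PS pts = ⊥ := by
  have hfin : Finite (PresentedGroup (relSet HeB0.edges HeB0.extra)) := finG
  exact HeB0.cert.PS_base_eq_bot (HeB0.tab.k + HeB0.slp.length) HeB0.lidx HeB0.lpar
    HeB0.lgi (HeB0.cert.exists_elt HeB0.slp S1695.hslp HeB0.hSlp) HeB0.levs S1695.hok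
    (cardG.trans S1695.hprod.symm)

theorem hpts : ∀ b ∈ pts, b < HeB0.cert.D.n := by decide +kernel

/-- A word which fixes the base points is trivial. -/
theorem wordOne (x : FreeGroup He.Gen)
    (hx : ∀ b ∈ pts, runT HeB0.cert.D (colWord HeB0.cert.cols x) b = b) :
    (PresentedGroup.mk (relSet HeB0.edges HeB0.extra) x : G) = 1 :=
  HeB0.cert.mk_eq_one_of_base pts hPS hpts x hx

/-- The images of the generators. -/
def F : Fin 7 → FreeGroup He.Gen :=
  ![He.a, He.b, He.c, He.f, He.g, He.d * He.e * He.f * He.d * He.c * He.d * He.f * He.e * He.d,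
    He.d * He.e * He.g * He.d * He.c * He.d * He.g * He.e * He.d]

theorem lift_mk : FreeGroup.lift (fun i => (PresentedGroup.mk (relSet HeB0.edges HeB0.extra) (F i) : G)) =
    (PresentedGroup.mk (relSet HeB0.edges HeB0.extra)).comp (FreeGroup.lift F) := by
  apply FreeGroup.ext_hom
  intro i
  rw [FreeGroup.lift_apply_of, MonoidHom.comp_apply, FreeGroup.lift_apply_of]

theorem keyH1 : ∀ r ∈ HeK0.extra, ∀ b ∈ pts,
    runT HeB0.cert.D (colWord HeB0.cert.cols (FreeGroup.lift F r)) b = b := by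
  decide +kernel

theorem keyH2 : ∀ x ∈ coxNodes HeK0.edges, ∀ y ∈ coxNodes HeK0.edges, ∀ b ∈ pts,
    runT HeB0.cert.D (colWord HeB0.cert.cols
      (FreeGroup.lift F ((FreeGroup.of x * FreeGroup.of y) ^ coxLabel HeK0.edges x y))) b = b := by
  decide +kernel

theorem rels_he : ∀ r ∈ relSet HeK0.edges HeK0.extra,
    FreeGroup.lift (fun i => (PresentedGroup.mk (relSet HeB0.edges HeB0.extra) (F i) : G)) r = 1 := by
  intro r hr
  rw [lift_mk, MonoidHom.comp_apply]
  rcases hr with hr | hr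
  · obtain ⟨x, hx, y, hy, rfl⟩ := hr
    exact wordOne _ (keyH2 x hx y hy)
  · exact wordOne _ (keyH1 r hr)

/-- The homomorphism to the Held group. -/
noncomputable def eta0 : PK →* G := PresentedGroup.toGroup rels_he

theorem eta0_of (i : Fin 7) : eta0 (PresentedGroup.of i) =
    PresentedGroup.mk (relSet HeB0.edges HeB0.extra) (F i) :=
  PresentedGroup.toGroup.of rels_he

/-- The involution. -/
noncomputable def z : G := PresentedGroup.mk (relSet HeB0.edges HeB0.extra) He.e

theorem z_ne_one : z ≠ 1 := by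
  apply HeB0.cert.mk_ne_one_of_moves He.e (i := 5) (by decide)
  decide +kernel

theorem z_sq : z * z = 1 := by
  have h := wordOne (He.e * He.e) (by decide +kernel)
  rw [map_mul] at h
  exact h

theorem orderOf_z : orderOf z = 2 := by
  have : Fact (Nat.Prime 2) := ⟨Nat.prime_two⟩
  apply orderOf_eq_prime
  · rw [pow_two]
    exact z_sq
  · exact z_ne_one

theorem z_comm_gen (b : Fin 7) :
    (PresentedGroup.mk (relSet HeB0.edges HeB0.extra) (F b) : G) * z =
      z * PresentedGroup.mk (relSet HeB0.edges HeB0.extra) (F b) := by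
  have h : ∀ b : Fin 7, (PresentedGroup.mk (relSet HeB0.edges HeB0.extra)
      (F b * He.e * (F b)⁻¹ * He.e⁻¹) : G) = 1 := by
    intro b
    apply wordOne
    revert b
    decide +kernel
  have h1 := h b
  rw [map_mul, map_mul, map_mul, map_inv, map_inv] at h1
  have h2 := mul_inv_eq_one.1 h1
  have h3 := mul_inv_eq_iff_eq_mul.1 h2
  exact h3

/-- The words of the representatives of the double cosets. -/
def xw : List (List He.Gen) := [[], [.d], [.d, .c, .d], [.d, .f, .e, .d], [.d, .g, .e, .d], [.d, .g, .f, .d], [.d, .f, .g, .d], [.d, .c, .d, .b, .c, .d], [.d, .e, .c, .d, .c, .d], [.d, .f, .c, .d, .c, .d], [.d, .g, .c, .d, .c, .d], [.d, .f, .c, .d, .b, .c, .d], [.d, .g, .c, .d, .b, .c, .d], [.d, .g, .f, .c, .d, .c, .d], [.d, .f, .g, .c, .d, .c, .d], [.d, .g, .f, .c, .d, .b, .c, .d], [.d, .g, .c, .d, .f, .b, .c, .d], [.d, .f, .c, .d, .g, .b, .c, .d], [.d, .c, .d, .b, .c, .d, .b, .c, .d], [.d, .e, .c, .d, .c, .d, .b, .c, .d], [.d, .c, .d, .f, .e, .d, .b,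 .c, .d], [.d, .c, .d, .g, .e, .d, .b, .c, .d], [.d, .c, .d, .g, .f, .d, .b, .c, .d], [.d, .f, .g, .d, .f, .c, .d, .b, .c, .d], [.d, .g, .f, .d, .g, .c, .d, .b, .c, .d], [.d, .c, .d, .g, .d, .f, .d, .b, .c, .d], [.d, .g, .c, .d, .c, .d, .f, .b, .c, .d], [.d, .f, .c, .d, .c, .d, .g, .b, .c, .d], [.d, .g, .c, .d, .b, .c, .d, .f, .c, .d], [.d, .f, .c, .d, .b, .c, .d, .g, .c, .d], [.d, .f, .c, .d, .b, .c, .d, .a, .b, .c, .d], [.d, .g, .c, .d, .b, .c, .d, .a, .b, .c, .d], [.d, .c, .d, .g, .f, .b, .c, .d, .b, .c, .d], [.d, .c, .d, .f, .g, .b, .c, .d, .b, .c, .d]]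

/-- The representatives of the double cosets, in the free group. -/
def xF (l : ℕ) : FreeGroup He.Gen := FreeGroup.mk ((xw.getD l []).map (fun x => (x, true)))

/-- The representatives of the double cosets. -/
noncomputable def X (l : ℕ) : G := PresentedGroup.mk (relSet HeB0.edges HeB0.extra) (xF l)

theorem X_zero : X 0 = 1 := rfl

/-- Points moved by the commutators. -/
def mvp : List ℕ := [0, 2, 1, 5, 0, 0, 0, 0, 1, 1, 0, 0, 0, 0, 0, 0, 0, 1, 0, 0, 0, 0, 0, 0, 0, 0, 0, 1, 0, 0, 0, 0, 0, 0]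

theorem X_moves : ∀ l < 34, l ≠ 0 →
    runT HeB0.cert.D (colWord HeB0.cert.cols (xF l * He.e * (xF l)⁻¹ * He.e⁻¹)) (mvp.getD l 0) ≠
      mvp.getD l 0 := by
  decide +kernel

theorem X_not_comm {l : ℕ} (hl : l < 34) (h0 : l ≠ 0) : X l * z ≠ z * X l := by
  intro h
  have h1 : (PresentedGroup.mk (relSet HeB0.edges HeB0.extra)
      (xF l * He.e * (xF l)⁻¹ * He.e⁻¹) : G) ≠ 1 := by
    have hlt : ∀ l < 34, mvp.getD l 0 < HeB0.cert.D.n := by decide +kernel
    exact HeB0.cert.mk_ne_one_of_moves _ (i := mvp.getD l 0) (hlt l hl) (X_moves l hl h0)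
  apply h1
  rw [map_mul, map_mul, map_mul, map_inv, map_inv]
  show X l * z * (X l)⁻¹ * z⁻¹ = 1
  rw [h, mul_inv_cancel_right, mul_inv_cancel]

end Cfsg.Agent.Helper9.HeCZ
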