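import Mathlib
import Cfsg.Agent.Lib.Helper9.HeCZ.He1
import Cfsg.Agent.Lib.Helper9.TCData.HeE0.Cert

set_option autoImplicit false
set_option maxRecDepth 1000000

/-! In the presented Held group, the centralizer of the involution `e` is the subgroup generated by
`a, b, c, f, g, c ^ (dfed), c ^ (dged)`, of index `187425`, isomorphic to the presented group of
order `21504`. -/

namespace Cfsg.Agent.Helper9.HeCZ

open Cfsg Cfsg.Agent.Helper9 Cfsg.Agent.Helper9.TC2 Cfsg.Agent.Helper9.TCData Cfsg.Spor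

/-- The generators of the subgroup. -/
abbrev SE : Set (FreeGroup He.Gen) :=
  {He.a, He.b, He.c, He.f, He.g,
    He.d * He.e * He.f * He.d * He.c * He.d * He.f * He.e * He.d,
    He.d * He.e * He.g * He.d * He.c * He.d * He.g * He.e * He.d}

/-- The subgroup. -/
abbrev K : Subgroup G := coxH HeE0.edges HeE0.extra SE

theorem indexK : K.index = 187425 := HeE0.cert.index_eq

theorem cardK : Nat.card K = 21504 := by
  have h2 := Subgroup.card_mul_index K
  rw [indexK, cardG] at h2
  have h3 : Nat.card K * 187425 = 21504 * 187425 := by rw [h2]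
  exact Nat.eq_of_mul_eq_mul_right (by norm_num) h3

theorem hset : SE = Set.range F := by
  ext s
  constructor
  · rintro (rfl | rfl | rfl | rfl | rfl | rfl | rfl)
    · exact ⟨0, rfl⟩
    · exact ⟨1, rfl⟩
    · exact ⟨2, rfl⟩
    · exact ⟨3, rfl⟩
    · exact ⟨4, rfl⟩
    · exact ⟨5, rfl⟩
    · exact ⟨6, rfl⟩
  · rintro ⟨b, rfl⟩
    fin_cases b
    · exact Or.inl rfl
    · exact Or.inr (Or.inl rfl)
    · exact Or.inr (Or.inr (Or.inl rfl))
    · exact Or.inr (Or.inr (Or.inr (Or.inl rfl)))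
    · exact Or.inr (Or.inr (Or.inr (Or.inr (Or.inl rfl))))
    · exact Or.inr (Or.inr (Or.inr (Or.inr (Or.inr (Or.inl rfl)))))
    · exact Or.inr (Or.inr (Or.inr (Or.inr (Or.inr (Or.inr rfl)))))

theorem K_eq : K = Subgroup.closure (Set.range fun i : Fin 7 =>
    (PresentedGroup.mk (relSet HeB0.edges HeB0.extra) (F i) : G)) := by
  unfold K coxH
  rw [hset, MonoidHom.map_closure, ← Set.range_comp]
  rfl

theorem range_eta0 : eta0.range = K := by
  rw [K_eq, MonoidHom.range_eq_map, ← PresentedGroup.closure_range_of, MonoidHom.map_closure,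
    ← Set.range_comp]
  congr 1
  ext g
  constructor
  · rintro ⟨i, rfl⟩
    exact ⟨i, (eta0_of i).symm⟩
  · rintro ⟨i, rfl⟩
    exact ⟨i, eta0_of i⟩

theorem eta0_mem (x : PK) : eta0 x ∈ K := by
  rw [← range_eta0]
  exact ⟨x, rfl⟩

/-- The homomorphism to the subgroup. -/
noncomputable def eta : PK →* K := eta0.codRestrict K eta0_mem

theorem eta_surj : Function.Surjective eta := by
  rintro ⟨y, hy⟩
  rw [← range_eta0] at hy
  obtain ⟨x, rfl⟩ := hy
  exact ⟨x, rfl⟩

theorem eta_bij : Function.Bijective eta := by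
  have : Finite PK := finPK
  have : Finite G := finG
  rw [Nat.bijective_iff_surjective_and_card]
  exact ⟨eta_surj, cardPK.trans cardK.symm⟩

theorem K_le : K ≤ Subgroup.centralizer {z} := by
  rw [K_eq, Subgroup.closure_le]
  rintro _ ⟨b, rfl⟩
  show PresentedGroup.mk _ _ ∈ Subgroup.centralizer {z}
  rw [Subgroup.mem_centralizer_iff]
  intro y hy
  rw [Set.mem_singleton_iff] at hy
  subst hy
  exact (z_comm_gen b).symm

theorem hlab : ∀ i < HeE0.cert.D.n, HeE0.orb.lab i < 34 := by
  intro i hi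
  have := HeE0.hOL i hi
  rwa [Nat.blt_eq] at this

theorem hroot : ∀ l < 34, HeE0.orb.root l < HeE0.cert.D.n ∧
    HeE0.orb.lab (HeE0.orb.root l) = l := by
  decide +kernel

theorem hXrun : ∀ l < 34,
    HeE0.orb.lab (runT HeE0.cert.D (colWord HeE0.cert.cols (xF l)) 0) = l := by
  decide +kernel

theorem hX : ∀ l < 34, HeE0.orb.lab (HeE0.cert.phi (X l) 0) = l := by
  intro l hl
  have hn0 : 0 < HeE0.cert.D.n := HeE0.cert.hn0
  show HeE0.orb.lab (HeE0.cert.phi (PresentedGroup.mk _ (xF l)) 0) = l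
  rw [(HeE0.cert.phi_mk_apply (xF l) hn0).1]
  exact hXrun l hl

theorem cent_z : Subgroup.centralizer {z} = K := by
  apply le_antisymm _ K_le
  intro g hg
  obtain ⟨l, hl, h, hh, h', hh', rfl⟩ :=
    HeE0.cert.double_coset HeE0.orb HeE0.hO1 HeE0.hO2 34 hlab hroot X hX g
  have hXl : X l ∈ Subgroup.centralizer {z} := by
    have e : X l = h⁻¹ * (h * X l * h') * h'⁻¹ := by group
    rw [e]
    exact Subgroup.mul_mem _ (Subgroup.mul_mem _ (Subgroup.inv_mem _ (K_le hh)) hg)
      (Subgroup.inv_mem _ (K_le hh'))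
  have hl0 : l = 0 := by
    by_contra h0
    rw [Subgroup.mem_centralizer_iff] at hXl
    exact X_not_comm hl h0 (hXl z rfl).symm
  subst hl0
  rw [X_zero, mul_one]
  exact Subgroup.mul_mem _ hh hh'

/-- The centralizer of the involution is isomorphic to the presented group of order `21504`. -/
theorem cent_iso : Nonempty (↥(Subgroup.centralizer ({z} : Set G)) ≃* PK) :=
  ⟨(MulEquiv.subgroupCongr cent_z).trans (MulEquiv.ofBijective eta eta_bij).symm⟩

end Cfsg.Agent.Helper9.HeCZ
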