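import Mathlib
import Cfsg.Agent.Lib.Helper9.HeCZ.Mat

set_option autoImplicit false
set_option maxRecDepth 1000000

/-! The homomorphism from the presented group of order `21504` to `SL₅(2)` is injective. -/

namespace Cfsg.Agent.Helper9.HeCZ

open Cfsg.Agent.Helper9 Cfsg.Agent.Helper9.TC2 Cfsg.Agent.Helper9.TCData Cfsg.Agent.Helper9.BM5
open Cfsg.Agent.Helper9.TitsBM (mul)
open Cfsg.Spor

/-- Equality of lists of natural numbers. -/
def eqL : List ℕ → List ℕ → Bool
  | [], [] => true
  | a :: as, b :: bs => Nat.beq a b && eqL as bs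
  | _, _ => false

theorem eq_of_eqL : ∀ a b : List ℕ, eqL a b = true → a = b
  | [], [], _ => rfl
  | [], _ :: _, h => by simp [eqL] at h
  | _ :: _, [], h => by simp [eqL] at h
  | a :: as, b :: bs, h => by
    rw [eqL, Bool.and_eq_true] at h
    rw [Nat.eq_of_beq_eq_true h.1, eq_of_eqL as bs h.2]

/-- The check at the point `i`: the table of matrices is compatible with the action, and the
matrix is not the identity unless the point is `0`. -/
noncomputable def chkPt (i : ℕ) : Bool :=
  allRange 0 7 (fun c => eqL (cols5 (matT (HeK0.tab.tau c i))) (mul (gM c) (cols5 (matT i)))) &&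
    (Nat.beq i 0 || neqB (cols5 (matT i)) one)

theorem chk_0 : allRange 0 2688 (fun i => chkPt i) = true := by decide +kernel

theorem chk_1 : allRange 2688 2688 (fun i => chkPt i) = true := by decide +kernel

theorem chk_2 : allRange 5376 2688 (fun i => chkPt i) = true := by decide +kernel

theorem chk_3 : allRange 8064 2688 (fun i => chkPt i) = true := by decide +kernel

theorem chk_4 : allRange 10752 2688 (fun i => chkPt i) = true := by decide +kernel

theorem chk_5 : allRange 13440 2688 (fun i => chkPt i) = true := by decide +kernel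

theorem chk_6 : allRange 16128 2688 (fun i => chkPt i) = true := by decide +kernel

theorem chk_7 : allRange 18816 2688 (fun i => chkPt i) = true := by decide +kernel

theorem chk_all : ∀ i < 21504, chkPt i = true := by
  have h0 : ∀ i < 0, (fun i => chkPt i) i = true := range_zero
  have h1 : ∀ i < 2688, (fun i => chkPt i) i = true := ext_range (a := 0) (len := 2688) h0 chk_0
  have h2 : ∀ i < 5376, (fun i => chkPt i) i = true := ext_range (a := 2688) (len := 2688) h1 chk_1
  have h3 : ∀ i < 8064, (fun i => chkPt i) i = true := ext_range (a := 5376) (len := 2688) h2 chk_2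
  have h4 : ∀ i < 10752, (fun i => chkPt i) i = true := ext_range (a := 8064) (len := 2688) h3 chk_3
  have h5 : ∀ i < 13440, (fun i => chkPt i) i = true := ext_range (a := 10752) (len := 2688) h4 chk_4
  have h6 : ∀ i < 16128, (fun i => chkPt i) i = true := ext_range (a := 13440) (len := 2688) h5 chk_5
  have h7 : ∀ i < 18816, (fun i => chkPt i) i = true := ext_range (a := 16128) (len := 2688) h6 chk_6
  have h8 : ∀ i < 21504, (fun i => chkPt i) i = true := ext_range (a := 18816) (len := 2688) h7 chk_7
  exact h8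

theorem step {i : ℕ} (hi : i < 21504) {c : ℕ} (hc : c < 7) :
    cols5 (matT (HeK0.tab.tau c i)) = mul (gM c) (cols5 (matT i)) := by
  have h := chk_all i hi
  unfold chkPt at h
  rw [Bool.and_eq_true, allRange_iff] at h
  exact eq_of_eqL _ _ (h.1 c (Nat.zero_le c) (by omega))

theorem ne_one {i : ℕ} (hi : i < 21504) (h0 : i ≠ 0) : toMat (cols5 (matT i)) ≠ 1 := by
  have h := chk_all i hi
  unfold chkPt at h
  rw [Bool.and_eq_true, Bool.or_eq_true] at h
  rcases h.2 with h1 | h1
  · exact absurd (Nat.eq_of_beq_eq_true h1) h0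
  · rw [← toMat_one]
    exact toMat_ne_of_neqB _ _ h1

theorem mat_zero : cols5 (matT 0) = one := by decide +kernel

theorem run_mat (w : List ℕ) (hw : ∀ c ∈ w, c < 7) :
    runT HeK0.tab w 0 < 21504 ∧ cols5 (matT (runT HeK0.tab w 0)) = evW gM w := by
  induction w with
  | nil => exact ⟨by norm_num [runT_nil], mat_zero⟩
  | cons c w ih =>
    obtain ⟨h1, h2⟩ := ih (fun c' hc' => hw c' (List.mem_cons_of_mem _ hc'))
    have hc : c < 7 := hw c List.mem_cons_self
    rw [runT_cons]
    refine ⟨?_, ?_⟩
    · exact HeK0.cert.permOK.tau_lt (c := c) (i := runT HeK0.tab w 0) hc h1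
    · rw [step h1 hc, h2, evW]

theorem coxH_empty : coxH HeK0.edges HeK0.extra (∅ : Set (FreeGroup HeK0.Gen)) = ⊥ := by
  unfold coxH
  rw [Subgroup.closure_empty, Subgroup.map_bot]

theorem theta_inj : Function.Injective theta := by
  rw [injective_iff_map_eq_one]
  intro g hg
  obtain ⟨r, rfl⟩ := PresentedGroup.mk_surjective _ g
  rw [theta_mk] at hg
  have h1 := psi_val r
  rw [hg] at h1
  have hn0 : 0 < HeK0.cert.D.n := HeK0.cert.hn0
  obtain ⟨h2, _⟩ := HeK0.cert.phi_mk_apply r hn0
  obtain ⟨h4, h5⟩ := run_mat (colWord HeK0.cols r)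
    (colWord_lt (HeK0.cert.hcols : ColsOK HeK0.edges HeK0.cols) r)
  by_contra hne
  have hi0 : runT HeK0.tab (colWord HeK0.cols r) 0 ≠ 0 := by
    intro h0
    apply hne
    have h6 : HeK0.cert.phi (PresentedGroup.mk (relSet HeK0.edges HeK0.extra) r) 0 = 0 := by
      rw [h2]
      exact h0
    have h7 := HeK0.cert.mem_of_phi_zero h6
    rw [coxH_empty, Subgroup.mem_bot] at h7
    exact h7
  apply ne_one h4 hi0
  rw [h5, ← h1]
  rfl

end Cfsg.Agent.Helper9.HeCZ
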