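import Mathlib
import Cfsg.Agent.Lib.Helper9.HeCZ.Mat2

set_option autoImplicit false
set_option maxRecDepth 1000000

/-! The presented group of order `21504` is isomorphic to the centralizer of a transvection in
`SL₅(2)`. The decomposition of the matrices commuting with the transvection follows the
library of helper26 for the Mathieu group (`Lib/Helper26/CZe`, `CZf`, `CZh`). -/

namespace Cfsg.Agent.Helper9.HeCZ

open Cfsg.Agent.Helper9 Cfsg.Agent.Helper9.TC2 Cfsg.Agent.Helper9.TCData Cfsg.Agent.Helper9.BM5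
open Cfsg.Agent.Helper9.TitsBM (mul)
open Cfsg.Spor Matrix

/-- The special linear group of degree three. -/
abbrev SL3 := Matrix.SpecialLinearGroup (Fin 3) (ZMod 2)

/-- The transvection. -/
abbrev tM : Matrix (Fin 5) (Fin 5) (ZMod 2) := Matrix.transvection 0 1 1

/-- The lower unipotent factor. -/
def Lmat (w0 w1 w2 : ZMod 2) : Matrix (Fin 5) (Fin 5) (ZMod 2) :=
  !![1, 0, 0, 0, 0; 0, 1, 0, 0, 0; 0, w0, 1, 0, 0; 0, w1, 0, 1, 0; 0, w2, 0, 0, 1]

/-- The upper unipotent factor. -/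
def Umat (a u0 u1 u2 : ZMod 2) : Matrix (Fin 5) (Fin 5) (ZMod 2) :=
  !![1, a, u0, u1, u2; 0, 1, 0, 0, 0; 0, 0, 1, 0, 0; 0, 0, 0, 1, 0; 0, 0, 0, 0, 1]

/-- The block embedding of a three by three matrix. -/
def blk (B : Matrix (Fin 3) (Fin 3) (ZMod 2)) : Matrix (Fin 5) (Fin 5) (ZMod 2) :=
  !![1, 0, 0, 0, 0; 0, 1, 0, 0, 0; 0, 0, B 0 0, B 0 1, B 0 2; 0, 0, B 1 0, B 1 1, B 1 2;
    0, 0, B 2 0, B 2 1, B 2 2]

theorem blk_one : blk 1 = 1 := by decide

theorem blk_mul (B C : Matrix (Fin 3) (Fin 3) (ZMod 2)) : blk (B * C) = blk B * blk C := by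
  ext i j
  fin_cases i <;> fin_cases j <;>
    simp [blk, Matrix.mul_apply, Fin.sum_univ_five, Fin.sum_univ_three]

/-- The lower right three by three block. -/
def Bof (M : Matrix (Fin 5) (Fin 5) (ZMod 2)) : Matrix (Fin 3) (Fin 3) (ZMod 2) :=
  !![M 2 2, M 2 3, M 2 4; M 3 2, M 3 3, M 3 4; M 4 2, M 4 3, M 4 4]

theorem Bof_one : Bof 1 = 1 := by decide

theorem Bof_mul (M N : Matrix (Fin 5) (Fin 5) (ZMod 2)) (h2 : M 2 0 = 0) (h3 : M 3 0 = 0)
    (h4 : M 4 0 = 0) (k2 : N 1 2 = 0) (k3 : N 1 3 = 0) (k4 : N 1 4 = 0) :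
    Bof (M * N) = Bof M * Bof N := by
  ext i j
  fin_cases i <;> fin_cases j <;>
    simp [Bof, Matrix.mul_apply, Fin.sum_univ_five, Fin.sum_univ_three, h2, h3, h4, k2, k3, k4]

theorem decomp (M : Matrix (Fin 5) (Fin 5) (ZMod 2)) (h00 : M 0 0 = 1) (h11 : M 1 1 = 1)
    (h10 : M 1 0 = 0) (h20 : M 2 0 = 0) (h30 : M 3 0 = 0) (h40 : M 4 0 = 0)
    (h12 : M 1 2 = 0) (h13 : M 1 3 = 0) (h14 : M 1 4 = 0) :
    M = Lmat (M 2 1) (M 3 1) (M 4 1) * blk (Bof M) * Umat (M 0 1) (M 0 2) (M 0 3) (M 0 4) := by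
  ext i j
  fin_cases i <;> fin_cases j <;>
    simp [Lmat, blk, Umat, Bof, Matrix.mul_apply, Fin.sum_univ_five, h00, h11, h10, h20, h30, h40,
      h12, h13, h14]

theorem ne_zero_zmod2 : ∀ x : ZMod 2, x ≠ 0 → x = 1 := by decide

theorem zmod2_cases : ∀ x : ZMod 2, x = 0 ∨ x = 1 := by decide

theorem shape (M : Matrix (Fin 5) (Fin 5) (ZMod 2)) (h : tM * M = M * tM) :
    M 1 0 = 0 ∧ M 2 0 = 0 ∧ M 3 0 = 0 ∧ M 4 0 = 0 ∧ M 1 2 = 0 ∧ M 1 3 = 0 ∧ M 1 4 = 0 ∧
      M 1 1 = M 0 0 := by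
  have e : ∀ i j, (tM * M) i j = (M * tM) i j := fun i j => by rw [h]
  have e00 := e 0 0
  have e02 := e 0 2
  have e03 := e 0 3
  have e04 := e 0 4
  have e01 := e 0 1
  have e21 := e 2 1
  have e31 := e 3 1
  have e41 := e 4 1
  simp [tM, Matrix.transvection, Matrix.mul_apply, Fin.sum_univ_five, Matrix.add_apply,
    Matrix.one_apply, Matrix.single_apply, add_mul, mul_add] at e00 e02 e03 e04 e01 e21 e31 e41
  refine ⟨e00, e21, e31, e41, e02, e03, e04, ?_⟩
  have h1 : M 0 1 + M 1 1 = M 0 1 + M 0 0 := by rw [e01, add_comm]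
  exact add_left_cancel h1

/-! ### The image of the homomorphism -/

/-- The element of a word. -/
noncomputable def wordPK (w : List (Fin 7)) : PK := (w.map PresentedGroup.of).prod

theorem theta_wordPK (w : List (Fin 7)) :
    (theta (wordPK w)).val = toMat (evW gM (w.map Fin.val)) := by
  unfold wordPK
  rw [map_list_prod, List.map_map, ← prod_gSL, List.map_map]
  have : (⇑theta ∘ PresentedGroup.of) = (gSL ∘ Fin.val) := funext theta_of
  rw [this]

/-- The matrices in the image. -/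
def HitM (N : Matrix (Fin 5) (Fin 5) (ZMod 2)) : Prop := ∃ g : PK, (theta g).val = N

theorem HitM.one : HitM 1 := ⟨1, by rw [map_one]; rfl⟩

theorem HitM.mul {M N : Matrix (Fin 5) (Fin 5) (ZMod 2)} (hM : HitM M) (hN : HitM N) :
    HitM (M * N) := by
  obtain ⟨g, rfl⟩ := hM
  obtain ⟨h, rfl⟩ := hN
  exact ⟨g * h, by rw [map_mul, Matrix.SpecialLinearGroup.coe_mul]⟩

theorem L_ok : ∀ w0 w1 w2 : ZMod 2,
    toMat (evW gM ((lW.getD (w0.val + 2 * w1.val + 4 * w2.val) []).map Fin.val)) =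
      Lmat w0 w1 w2 := by
  decide +kernel

theorem U_ok : ∀ a u0 u1 u2 : ZMod 2,
    toMat (evW gM ((uW.getD (a.val + 2 * u0.val + 4 * u1.val + 8 * u2.val) []).map Fin.val)) =
      Umat a u0 u1 u2 := by
  decide +kernel

theorem T_ok : ∀ i j : Fin 3, i ≠ j →
    toMat (evW gM ((tW.getD (3 * i.val + j.val) []).map Fin.val)) =
      blk (Matrix.transvection i j 1) := by
  decide +kernel

theorem hit_L (w0 w1 w2 : ZMod 2) : HitM (Lmat w0 w1 w2) :=
  ⟨_, (theta_wordPK _).trans (L_ok w0 w1 w2)⟩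

theorem hit_U (a u0 u1 u2 : ZMod 2) : HitM (Umat a u0 u1 u2) :=
  ⟨_, (theta_wordPK _).trans (U_ok a u0 u1 u2)⟩

theorem hit_blk (B : SL3) : HitM (blk B.val) := by
  refine Matrix.SpecialLinearGroup.diagonal_transvection_induction'
    (fun B => HitM (blk B.val)) B ?_ ?_ ?_
  · intro i j hij c hc
    have hc1 : c = 1 := by
      rcases zmod2_cases c with h | h
      · exact absurd h hc
      · exact h
    subst hc1
    have : Matrix.SpecialLinearGroup.diag2n hij (1 : ZMod 2) hc = 1 := by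
      apply Subtype.ext
      rw [Matrix.SpecialLinearGroup.diag2n_coe, Matrix.SpecialLinearGroup.coe_one]
      ext r s
      simp [Matrix.diagonal_apply, Matrix.one_apply]
    show HitM (blk (Matrix.SpecialLinearGroup.diag2n hij (1 : ZMod 2) hc).val)
    rw [this, Matrix.SpecialLinearGroup.coe_one, blk_one]
    exact HitM.one
  · intro i j hij a
    show HitM (blk (Matrix.SpecialLinearGroup.transvection hij a).val)
    rcases zmod2_cases a with h | h
    · subst h
      rw [Matrix.SpecialLinearGroup.transvection_coeff_zero, Matrix.SpecialLinearGroup.coe_one,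
        blk_one]
      exact HitM.one
    · subst h
      exact ⟨_, (theta_wordPK _).trans (T_ok i j hij)⟩
  · intro A B hA hB
    show HitM (blk (A * B).val)
    rw [Matrix.SpecialLinearGroup.coe_mul, blk_mul]
    exact hA.mul hB

theorem hit_of_comm (A : SL5) (h : tM * A.1 = A.1 * tM) : ∃ g : PK, theta g = A := by
  -- the inverse also commutes with the transvection
  have hAA' : A.1 * (A⁻¹).1 = 1 := by
    rw [← Matrix.SpecialLinearGroup.coe_mul, mul_inv_cancel, Matrix.SpecialLinearGroup.coe_one]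
  have hA'A : (A⁻¹).1 * A.1 = 1 := by
    rw [← Matrix.SpecialLinearGroup.coe_mul, inv_mul_cancel, Matrix.SpecialLinearGroup.coe_one]
  have h' : tM * (A⁻¹).1 = (A⁻¹).1 * tM := by
    calc tM * (A⁻¹).1 = ((A⁻¹).1 * A.1) * (tM * (A⁻¹).1) := by rw [hA'A, Matrix.one_mul]
      _ = (A⁻¹).1 * (A.1 * tM) * (A⁻¹).1 := by simp only [Matrix.mul_assoc]
      _ = (A⁻¹).1 * (tM * A.1) * (A⁻¹).1 := by rw [h]
      _ = (A⁻¹).1 * tM * (A.1 * (A⁻¹).1) := by simp only [Matrix.mul_assoc]
      _ = (A⁻¹).1 * tM := by rw [hAA', Matrix.mul_one]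
  obtain ⟨a10, a20, a30, a40, a12, a13, a14, a11⟩ := shape A.1 h
  obtain ⟨b10, b20, b30, b40, b12, b13, b14, b11⟩ := shape (A⁻¹).1 h'
  have a00 : A.1 0 0 = 1 := by
    apply ne_zero_zmod2
    intro h0
    have hdet := Matrix.det_eq_zero_of_column_eq_zero (A := A.1) 0 (by
      intro i
      fin_cases i
      · exact h0
      · exact a10
      · exact a20
      · exact a30
      · exact a40)
    rw [A.2] at hdet
    revert hdet
    decide
  rw [a00] at a11
  -- the block is invertible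
  have hB : (Bof A.1).det = 1 := by
    have h1 : Bof A.1 * Bof (A⁻¹).1 = 1 := by
      rw [← Bof_mul _ _ a20 a30 a40 b12 b13 b14, hAA', Bof_one]
    have h2 := congrArg Matrix.det h1
    rw [Matrix.det_mul, Matrix.det_one] at h2
    exact unit_zmod2 _ _ h2
  obtain ⟨gB, hgB⟩ := hit_blk ⟨Bof A.1, hB⟩
  obtain ⟨gL, hgL⟩ := hit_L (A.1 2 1) (A.1 3 1) (A.1 4 1)
  obtain ⟨gU, hgU⟩ := hit_U (A.1 0 1) (A.1 0 2) (A.1 0 3) (A.1 0 4)
  refine ⟨gL * gB * gU, ?_⟩
  apply Subtype.ext
  rw [map_mul, map_mul, Matrix.SpecialLinearGroup.coe_mul, Matrix.SpecialLinearGroup.coe_mul, hgL,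
    hgU, hgB]
  exact (decomp A.1 a00 a11 a10 a20 a30 a40 a12 a13 a14).symm

theorem theta_comm : ∀ c, c < 7 → mul (gM c) [1, 3, 4, 8, 16] = mul [1, 3, 4, 8, 16] (gM c) := by
  decide

theorem toMat_tM : toMat [1, 3, 4, 8, 16] = tM := by decide

theorem theta_gen_comm (x : Fin 7) : (theta (PresentedGroup.of x)).val * tM =
    tM * (theta (PresentedGroup.of x)).val := by
  rw [theta_of, gSL_val, ← toMat_tM, ← toMat_mul _ _ (gM_ok x.val).1, ← toMat_mul _ _ rfl,
    theta_comm x.val x.isLt]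

theorem theta_comm_all (g : PK) : (theta g).val * tM = tM * (theta g).val := by
  have hcl : g ∈ Subgroup.closure (Set.range (PresentedGroup.of (rels := relSet HeK0.edges HeK0.extra))) := by
    rw [PresentedGroup.closure_range_of]
    exact Subgroup.mem_top g
  induction hcl using Subgroup.closure_induction with
  | mem y hy =>
    obtain ⟨x, rfl⟩ := hy
    exact theta_gen_comm x
  | one =>
    rw [map_one, Matrix.SpecialLinearGroup.coe_one, Matrix.one_mul, Matrix.mul_one]
  | mul y z _ _ hy hz =>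
    rw [map_mul, Matrix.SpecialLinearGroup.coe_mul, Matrix.mul_assoc, hz, ← Matrix.mul_assoc, hy,
      Matrix.mul_assoc]
  | inv y _ hy =>
    have h1 : (theta y).val * (theta y⁻¹).val = 1 := by
      rw [← Matrix.SpecialLinearGroup.coe_mul, ← map_mul, mul_inv_cancel, map_one,
        Matrix.SpecialLinearGroup.coe_one]
    have h2 : (theta y⁻¹).val * (theta y).val = 1 := by
      rw [← Matrix.SpecialLinearGroup.coe_mul, ← map_mul, inv_mul_cancel, map_one,
        Matrix.SpecialLinearGroup.coe_one]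
    calc (theta y⁻¹).val * tM = (theta y⁻¹).val * tM * ((theta y).val * (theta y⁻¹).val) := by
          rw [h1, Matrix.mul_one]
      _ = (theta y⁻¹).val * (tM * (theta y).val) * (theta y⁻¹).val := by
          simp only [Matrix.mul_assoc]
      _ = (theta y⁻¹).val * ((theta y).val * tM) * (theta y⁻¹).val := by rw [hy]
      _ = ((theta y⁻¹).val * (theta y).val) * tM * (theta y⁻¹).val := by
          simp only [Matrix.mul_assoc]
      _ = tM * (theta y⁻¹).val := by rw [h2, Matrix.one_mul]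

/-- The presented group is isomorphic to the centralizer of the transvection. -/
theorem main_mat (s : SL5) (hs : (s : Matrix (Fin 5) (Fin 5) (ZMod 2)) = Matrix.transvection 0 1 1) :
    Nonempty (PK ≃* ↥(Subgroup.centralizer ({s} : Set SL5))) := by
  have hmem : ∀ g : PK, theta g ∈ Subgroup.centralizer ({s} : Set SL5) := by
    intro g
    rw [Subgroup.mem_centralizer_iff]
    intro y hy
    rw [Set.mem_singleton_iff] at hy
    rw [hy]
    apply Subtype.ext
    rw [Matrix.SpecialLinearGroup.coe_mul, Matrix.SpecialLinearGroup.coe_mul, hs]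
    exact (theta_comm_all g).symm
  let f : PK →* ↥(Subgroup.centralizer ({s} : Set SL5)) := theta.codRestrict _ hmem
  have hinj : Function.Injective f := by
    intro g h hgh
    apply theta_inj
    exact congrArg Subtype.val hgh
  have hsurj : Function.Surjective f := by
    intro A
    have h1 := Subgroup.mem_centralizer_iff.1 A.2 s rfl
    have h2 : tM * (A : SL5).1 = (A : SL5).1 * tM := by
      have := congrArg Subtype.val h1
      rw [Matrix.SpecialLinearGroup.coe_mul, Matrix.SpecialLinearGroup.coe_mul, hs] at this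
      exact this
    obtain ⟨g, hg⟩ := hit_of_comm (A : SL5) h2
    exact ⟨g, Subtype.ext hg⟩
  exact ⟨MulEquiv.ofBijective f ⟨hinj, hsurj⟩⟩

end Cfsg.Agent.Helper9.HeCZ
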